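import Groth.Prelude.Def_ModSite2
import Groth.Prelude.Def_CohB1
import Groth.Agent.ModGroth.PushTensor
import Groth.Agent.ModGroth.TensorAssoc
import Groth.Agent.ModGroth.ProjLocFree
import Groth.Agent.SSExist.Wrap
import Groth.Agent.SSExist.ExtDerived
import Groth.Agent.CohFinite.ClosedDescent

/-!
# Change of rings along a closed immersion: the right adjoint of `F ↦ ι_*(E ⊗ F)`
-/

universe u v v' v'' w w' w''

open CategoryTheory CategoryTheory.Limits Opposite AlgebraicGeometry TopologicalSpace

namespace Groth.Agent.ClosedExt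

open ModGroth ModGroth.Stalk ModGroth.PushStalk

section General

variable {C : Type w} [Category.{v} C] [Abelian C] [HasInjectiveResolutions C]
  {C' : Type w'} [Category.{v'} C'] [Abelian C'] {C'' : Type w''} [Category.{v''} C''] [Abelian C'']

/-- An exact functor commutes with right derived functors. -/
lemma nonempty_rightDerived_exact (T : C ⥤ C') [T.Additive] (G : C' ⥤ C'') [G.Additive] [G.PreservesHomology]
    (A : C) (n : ℕ) :
    Nonempty (((T ⋙ G).rightDerived n).obj A ≅ G.obj ((T.rightDerived n).obj A)) :=
  let R := injectiveResolution A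
  ⟨R.isoRightDerivedObj (T ⋙ G) n ≪≫
    (((T.mapHomologicalComplex (ComplexShape.up ℕ)).obj R.cocomplex).sc n).mapHomologyIso G ≪≫
    G.mapIso (R.isoRightDerivedObj T n).symm⟩

/-- Isomorphic functors have isomorphic derived functors. -/
lemma nonempty_rightDerived_congr {T T' : C ⥤ C'} [T.Additive] [T'.Additive] (e : T ≅ T') (A : C) (n : ℕ) :
    Nonempty ((T.rightDerived n).obj A ≅ (T'.rightDerived n).obj A) :=
  let R := injectiveResolution A
  ⟨R.isoRightDerivedObj T n ≪≫ (HomologicalComplex.homologyFunctor _ _ n).mapIso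
    ((NatIso.mapHomologicalComplex e (ComplexShape.up ℕ)).app R.cocomplex) ≪≫
    (R.isoRightDerivedObj T' n).symm⟩

end General

variable {X P : Scheme.{u}} (ι : X ⟶ P)

lemma surjective_extendScalars_unit {R S : Type u} [CommRing R] [CommRing S] (φ : R →+* S)
    (hφ : Function.Surjective φ) (M : ModuleCat.{u} R) :
    Function.Surjective ((ModuleCat.extendRestrictScalarsAdj.{u, u, u} φ).unit.app M) := by
  algebraize [φ]
  intro x
  change TensorProduct R S M at x
  induction x using TensorProduct.induction_on with
  | zero => exact ⟨0, map_zero _⟩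
  | tmul s m =>
    obtain ⟨r, rfl⟩ := hφ s
    refine ⟨r • m, ?_⟩
    change (1 : S) ⊗ₜ[R] (r • m) = φ r ⊗ₜ[R] m
    rw [TensorProduct.tmul_smul, TensorProduct.smul_tmul', Algebra.smul_def, mul_one]
    rfl
  | add a b ha hb =>
    obtain ⟨a', ha'⟩ := ha
    obtain ⟨b', hb'⟩ := hb
    exact ⟨a' + b', (map_add _ a' b').trans (congrArg₂ (fun p q : TensorProduct R S M => p + q) ha' hb')⟩

variable [IsClosedImmersion ι]

lemma surjective_stalk_unit (x : X) (F : P.Modules) :
    Function.Surjective ((DerSch.stalkFunctor P (ι.base x)).map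
      ((Scheme.Modules.pullbackPushforwardAdjunction ι).unit.app F)) := by
  intro β
  suffices h : ∃ α, spHom ι x ((Scheme.Modules.pullback ι).obj F) ((DerSch.stalkFunctor P (ι.base x)).map
      ((Scheme.Modules.pullbackPushforwardAdjunction ι).unit.app F) α) = spHom ι x _ β by
    obtain ⟨α, hα⟩ := h
    exact ⟨α, (spHom_bijective ι ι.isClosedEmbedding.isInducing x _).1 hα⟩
  obtain ⟨δ, hδ⟩ := ((pullStalkIso ι x).app F).symm.toLinearEquiv.surjective (spHom ι x _ β)
  obtain ⟨γ, rfl⟩ := surjective_extendScalars_unit (ι.stalkMap x).hom (ι.stalkMap_surjective x) _ δ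
  obtain ⟨U, hx, m, rfl⟩ := exists_gm (toPres.obj F) γ
  refine ⟨gm (toPres.obj F) hx m, ?_⟩
  refine Eq.trans ?_ hδ
  refine Eq.trans ?_ (inv_oneT ι x F hx m).symm
  exact (congrArg (spHom ι x _) ((stalkFunctor_map_eq _ _ _).trans (stMap_gm _ hx m))).trans (spHom_gm ι x _ hx _)

lemma isIso_counit (M : X.Modules) :
    IsIso ((Scheme.Modules.pullbackPushforwardAdjunction ι).counit.app M) := by
  let adj := Scheme.Modules.pullbackPushforwardAdjunction ι
  let F := (Scheme.Modules.pushforward ι).obj M
  have htri := adj.right_triangle_components M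
  have hη : IsIso (adj.unit.app F) := by
    haveI : Mono (adj.unit.app F) := mono_of_mono_fac htri
    refine isIso_of_stalks _ fun y => ?_
    by_cases hy : y ∈ Set.range ι.base
    · obtain ⟨x, rfl⟩ := hy
      refine (ConcreteCategory.isIso_iff_bijective _).2 ⟨?_, surjective_stalk_unit ι x F⟩
      intro a b hab
      have h := congrArg ((DerSch.stalkFunctor P (ι.base x)).map ((Scheme.Modules.pushforward ι).map (adj.counit.app M))) hab
      rw [← ConcreteCategory.comp_apply, ← ConcreteCategory.comp_apply, ← Functor.map_comp, htri] at h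
      have hid := ConcreteCategory.congr_hom ((DerSch.stalkFunctor P (ι.base x)).map_id F)
      exact (hid a).symm.trans (h.trans (hid b))
    · exact isIso_of_source_target_iso_zero _
        (isZero_stalk_push ι ι.isClosedEmbedding.isClosed_range hy M).isoZero
        (isZero_stalk_push ι ι.isClosedEmbedding.isClosed_range hy _).isoZero
  have : IsIso (adj.unit.app F ≫ (Scheme.Modules.pushforward ι).map (adj.counit.app M)) := by
    rw [htri]; infer_instance
  haveI : IsIso ((Scheme.Modules.pushforward ι).map (adj.counit.app M)) :=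
    IsIso.of_isIso_comp_left (adj.unit.app F) _
  exact CohFinite.isIso_of_isIso_pushforward ι _

/-- Direct image along a closed immersion is fully faithful. -/
noncomputable def pushFF : (Scheme.Modules.pushforward ι).FullyFaithful :=
  haveI : IsIso (Scheme.Modules.pullbackPushforwardAdjunction ι).counit :=
    haveI : ∀ M, IsIso ((Scheme.Modules.pullbackPushforwardAdjunction ι).counit.app M) := isIso_counit ι
    NatIso.isIso_of_isIso_app _
  (Scheme.Modules.pullbackPushforwardAdjunction ι).fullyFaithfulROfIsIsoCounit

lemma push_preservesColimitsOfShape {J : Type u} [SmallCategory J] :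
    PreservesColimitsOfShape J (Scheme.Modules.pushforward ι) := by
  haveI : HasColimitsOfSize.{u, u} X.Modules :=
    inferInstanceAs (HasColimitsOfSize.{u, u} (SheafOfModules.{u} X.ringCatSheaf))
  haveI : HasColimitsOfSize.{u, u} P.Modules :=
    inferInstanceAs (HasColimitsOfSize.{u, u} (SheafOfModules.{u} P.ringCatSheaf))
  haveI hst : ∀ (Z : Scheme.{u}) (z : Z), PreservesColimitsOfSize.{u, u} (DerSch.stalkFunctor Z z) := fun Z z =>
    (stalkAdj z).leftAdjoint_preservesColimits
  haveI : ∀ y : P, PreservesColimitsOfShape J (Scheme.Modules.pushforward ι ⋙ DerSch.stalkFunctor P y) := fun y => by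
    by_cases hy : y ∈ Set.range ι.base
    · obtain ⟨x, rfl⟩ := hy
      exact preservesColimitsOfShape_of_natIso (pushStalkIso ι ι.isClosedEmbedding.isInducing x).symm
    · refine ⟨fun {K} => ⟨fun {c} _ => ⟨⟨fun s => 0, fun s j => ?_, fun s m _ => ?_⟩⟩⟩⟩
      · exact (isZero_stalk_push ι ι.isClosedEmbedding.isClosed_range hy _).eq_of_src _ _
      · exact (isZero_stalk_push ι ι.isClosedEmbedding.isClosed_range hy _).eq_of_src _ _
  exact preservesColimitsOfShape_of_jointly _ (fun y => DerSch.stalkFunctor P y) fun φ h => isIso_of_stalks φ h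

lemma push_preservesColimits : PreservesColimitsOfSize.{u, u} (Scheme.Modules.pushforward ι) :=
  ⟨fun {J} _ => push_preservesColimitsOfShape ι⟩

instance push_preservesHomology : (Scheme.Modules.pushforward ι).PreservesHomology :=
  preservesHomology_push ι

instance push_additive : (Scheme.Modules.pushforward ι).Additive :=
  haveI : (Scheme.Modules.pushforward ι).IsRightAdjoint := (Scheme.Modules.pullbackPushforwardAdjunction ι).isRightAdjoint
  haveI := preservesBinaryBiproducts_of_preservesBinaryProducts (Scheme.Modules.pushforward ι)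
  Functor.additive_of_preservesBinaryBiproducts _

/-- `F ↦ ι_*(E ⊗ F)`. -/
noncomputable abbrev twistPush (E : X.Modules) : X.Modules ⥤ P.Modules :=
  (ModSite.tensorBi X.sheaf).obj E ⋙ Scheme.Modules.pushforward ι

lemma twistPush_isLeftAdjoint (E : X.Modules) : (twistPush ι E).IsLeftAdjoint :=
  haveI : PreservesColimitsOfSize.{u, u} ((ModSite.tensorBi X.sheaf).obj E) := tL_preservesColimits (O := X.sheaf) E
  @sheaf_isLeftAdjoint _ _ _ X.ringCatSheaf P.Modules _ (twistPush ι E)
    (@comp_preservesColimits _ _ _ _ _ _ ((ModSite.tensorBi X.sheaf).obj E) (Scheme.Modules.pushforward ι)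
      (tL_preservesColimits (O := X.sheaf) E) (push_preservesColimits ι))

/-- The right adjoint `G ↦ Hom(ι_* E, G)`, as a module on `X`. -/
noncomputable def upperShriek (E : X.Modules) : P.Modules ⥤ X.Modules :=
  haveI := twistPush_isLeftAdjoint ι E
  (twistPush ι E).rightAdjoint

/-- The adjunction. -/
noncomputable def upperShriekAdj (E : X.Modules) : twistPush ι E ⊣ upperShriek ι E :=
  haveI := twistPush_isLeftAdjoint ι E
  Adjunction.ofIsLeftAdjoint _

instance upperShriek_additive (E : X.Modules) : (upperShriek ι E).Additive :=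
  haveI : (upperShriek ι E).IsRightAdjoint := (upperShriekAdj ι E).isRightAdjoint
  haveI := preservesBinaryBiproducts_of_preservesBinaryProducts (upperShriek ι E)
  Functor.additive_of_preservesBinaryBiproducts _

lemma upperShriek_injective (E : X.Modules) (hE : FlatMod.IsFinLocFree E) (Q : P.Modules) [Injective Q] :
    Injective ((upperShriek ι E).obj Q) := by
  haveI : ((DCoh.tensorBi (X := X)).obj E).PreservesHomology := LocBasis.preservesHomology_tensor hE
  haveI : (twistPush ι E).PreservesMonomorphisms :=
    inferInstanceAs (((DCoh.tensorBi (X := X)).obj E ⋙ Scheme.Modules.pushforward ι).PreservesMonomorphisms)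
  exact (upperShriekAdj ι E).map_injective Q inferInstance

/-- The projection formula, naturally in the module on `P`. -/
noncomputable def pullTwistIso (E : X.Modules) :
    (ModSite.tensorBi P.sheaf).flip.obj ((Scheme.Modules.pushforward ι).obj E) ≅
      Scheme.Modules.pullback ι ⋙ twistPush ι E :=
  (tensorSymm (O := P.sheaf) ((Scheme.Modules.pushforward ι).obj E)).symm ≪≫
    NatIso.ofComponents (fun N => @asIso _ _ _ _ (beta ι E N) (isIso_beta ι E N)) fun b => beta_natR ι E b

/-- `ι_* ∘ Hom(ι_*E, -) = Hom(ι_*E, -)`. -/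
noncomputable def upperShriekPushIso (E : X.Modules)
    [ModSite.HasSheafHom (O := P.sheaf) ((Scheme.Modules.pushforward ι).obj E)] :
    upperShriek ι E ⋙ Scheme.Modules.pushforward ι ≅
      ModSite.sheafHom (O := P.sheaf) ((Scheme.Modules.pushforward ι).obj E) :=
  (((Scheme.Modules.pullbackPushforwardAdjunction ι).comp (upperShriekAdj ι E)).ofNatIsoLeft
    (pullTwistIso ι E).symm).rightAdjointUniq (ModSite.sheafHomAdj (O := P.sheaf) _)

end Groth.Agent.ClosedExt
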